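import Mathlib
import Groth.Agent.Lib.Helper5.Stalk.Exact

/-!
# Isomorphisms of `𝒪_X`-modules can be checked on stalks (helper5)
-/
set_option autoImplicit false
set_option linter.unusedSectionVars false
set_option linter.unusedVariables false
universe u
open CategoryTheory CategoryTheory.Limits Opposite TopologicalSpace AlgebraicGeometry
open Groth.Agent.Lib.Helper5.StalkAdj

namespace Groth.Agent.Lib.Helper5.ProjF

variable {X : Scheme.{u}}

theorem mono_of_stalks {M N : X.Modules} (φ : M ⟶ N)
    (h : ∀ x : X, Function.Injective ((stalkSh X x).map φ).hom) : Mono φ := by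
  let S : ShortComplex X.Modules := ShortComplex.mk (0 : M ⟶ M) φ zero_comp
  have hS : S.Exact := by
    apply exact_of_stalks
    intro x
    have hm : Mono ((S.map (stalkSh X x)).g) := (ModuleCat.mono_iff_injective _).2 (h x)
    exact (ShortComplex.exact_iff_mono _ (by
      show (stalkSh X x).map (0 : M ⟶ M) = 0
      exact Functor.map_zero _ _ _)).2 hm
  exact (ShortComplex.exact_iff_mono S rfl).1 hS

theorem epi_of_stalks {M N : X.Modules} (φ : M ⟶ N)
    (h : ∀ x : X, Function.Surjective ((stalkSh X x).map φ).hom) : Epi φ := by
  let S : ShortComplex X.Modules := ShortComplex.mk φ (0 : N ⟶ N) comp_zero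
  have hS : S.Exact := by
    apply exact_of_stalks
    intro x
    have hm : Epi ((S.map (stalkSh X x)).f) := (ModuleCat.epi_iff_surjective _).2 (h x)
    exact (ShortComplex.exact_iff_epi _ (by
      show (stalkSh X x).map (0 : N ⟶ N) = 0
      exact Functor.map_zero _ _ _)).2 hm
  exact (ShortComplex.exact_iff_epi S rfl).1 hS

/-- a morphism of modules which is bijective on all stalks is an isomorphism -/
theorem isIso_of_stalks_bijective {M N : X.Modules} (φ : M ⟶ N)
    (h : ∀ x : X, Function.Bijective ((stalkSh X x).map φ).hom) : IsIso φ := by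
  haveI := mono_of_stalks φ (fun x => (h x).1)
  haveI := epi_of_stalks φ (fun x => (h x).2)
  exact isIso_of_mono_of_epi φ

end Groth.Agent.Lib.Helper5.ProjF
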