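import Mathlib
import Groth.Agent.Lib.Helper5.StalkTen.StalkTenS
import Groth.Agent.Lib.Helper1.VT13

/-!
# Germ formulas for the stalk of a sheafification and of a tensor product (helper5)
-/
set_option autoImplicit false
set_option linter.unusedSectionVars false
set_option linter.unusedVariables false
universe u
open CategoryTheory CategoryTheory.Limits MonoidalCategory Opposite TensorProduct TopologicalSpace
  AlgebraicGeometry
open Groth.Agent.Lib.Helper5.Misc.StalkTensor
  Groth.Agent.Lib.Helper5.Sky Groth.Agent.Lib.Helper5.StalkAdj Groth.Agent.Lib.Helper5.StalkTenP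
  Groth.Agent.Lib.Helper5.StalkTenS

namespace Groth.Agent.Lib.Helper5.ProjF

variable (X : Scheme.{u}) (x : X)

lemma fgt_adjS_unit (M : X.Modules) :
    (fgtS X).map ((adjS X x).unit.app M) = (adj X.presheaf x).unit.app ((fgtS X).obj M) := by
  unfold adjS
  rw [Adjunction.map_restrictFullyFaithful_unit_app]
  simp only [Iso.symm_hom, Functor.rightUnitor_inv_app, Iso.trans_hom, NatTrans.comp_app,
    Functor.leftUnitor_hom_app, NatIso.ofComponents_hom_app, Iso.refl_hom]
  erw [CategoryTheory.Functor.map_id, Category.id_comp, Category.id_comp, Category.comp_id]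

/-- the sheafification unit -/
noncomputable abbrev shUnit (P : PMod X.presheaf) :
    P ⟶ (fgtS X).obj ((CohB1.sheafifyMod X).obj P) :=
  (PresheafOfModules.sheafificationAdjunction (𝟙 X.ringCatSheaf.obj)).unit.app P

lemma adjShf_unit_app (P : PMod X.presheaf) :
    (adjShf X x).unit.app P =
      shUnit X P ≫ (adj X.presheaf x).unit.app ((fgtS X).obj ((CohB1.sheafifyMod X).obj P)) := by
  unfold adjShf
  simp only [Adjunction.ofNatIsoRight_unit, NatTrans.comp_app, Adjunction.comp_unit_app]
  have h := fgt_adjS_unit X x ((CohB1.sheafifyMod X).obj P)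
  erw [h]
  erw [Category.assoc]

/-- **the germ of the sheafification unit** under `stalkShfIso` -/
lemma stalkShfIso_hom_gm (P : PMod X.presheaf) (U : Opens X) (h : x ∈ U) (s : P.obj (op U)) :
    ((stalkShfIso X x).hom.app P).hom
      (gm ((fgtS X).obj ((CohB1.sheafifyMod X).obj P)) x U h ((shUnit X P).app (op U) s)) =
    gm P x U h s := by
  have key := Adjunction.unit_leftAdjointUniq_hom_app (adjShf X x) (adj X.presheaf x) P
  rw [adjShf_unit_app] at key
  have h2 := congrArg (fun φ => ((φ.app (op U)).hom s : SkyT x _ U) ⟨h⟩) key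
  exact h2

open Groth.Agent.Helper1.TmulLib Groth.Agent.Helper1.QcCech in
/-- **the germ of a pure tensor** under the stalk-of-tensor isomorphism -/
lemma stalkTensorIsoS_gm_tm (M N : X.Modules) (U : X.Opens) (h : x ∈ U) (m : Γ(M, U)) (n : Γ(N, U)) :
    (stalkTensorIsoS X x M N).hom
      (gm ((fgtS X).obj ((DCoh.tensorBi.obj M).obj N)) x U h (tm M N U m n)) =
    (gm ((fgtS X).obj M) x U h m) ⊗ₜ[X.presheaf.stalk x] (gm ((fgtS X).obj N) x U h n) := by
  have h1 := stalkShfIso_hom_gm X x (tensorP X M N) U h (m ⊗ₜ n)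
  show (stalkTensorIso ((fgtS X).obj M) ((fgtS X).obj N) x).hom
    (((stalkShfIso X x).hom.app (tensorP X M N)).hom _) = _
  erw [h1]
  rw [stalkTensorIso_hom_apply]
  erw [theta_gm]
  rfl

end Groth.Agent.Lib.Helper5.ProjF
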