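import Mathlib
import Groth.Agent.Lib.Helper5.ProjF.StalkGerm
import Groth.Agent.Lib.Helper5.Stalk.Pull

/-!
# The germ of the unit `A ⟶ f_* f^* A` under the stalk-of-pullback isomorphism (helper5)
-/
set_option autoImplicit false
set_option linter.unusedSectionVars false
set_option linter.unusedVariables false
universe u
open CategoryTheory CategoryTheory.Limits MonoidalCategory Opposite TensorProduct TopologicalSpace
  AlgebraicGeometry
open Groth.Agent.Lib.Helper5.Misc.StalkTensor
  Groth.Agent.Lib.Helper5.Sky Groth.Agent.Lib.Helper5.StalkAdj Groth.Agent.Lib.Helper5.StalkTenP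
  Groth.Agent.Lib.Helper5.StalkTenS
open ChangeOfRings

namespace Groth.Agent.Lib.Helper5.ProjF

variable {X Y : Scheme.{u}} (f : X ⟶ Y) (x : X)

/-- the unit `A ⟶ f_* f^* A` -/
noncomputable abbrev ppUnit (A : Y.Modules) :
    A ⟶ (Scheme.Modules.pushforward f).obj ((Scheme.Modules.pullback f).obj A) :=
  (Scheme.Modules.pullbackPushforwardAdjunction f).unit.app A

lemma adjPull_unit_app (A : Y.Modules) :
    (adjPull f x).unit.app A =
      ppUnit f A ≫ (Scheme.Modules.pushforward f).map
        ((adjS X x).unit.app ((Scheme.Modules.pullback f).obj A)) := by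
  unfold adjPull
  rw [Adjunction.comp_unit_app]

lemma adjExt_unit_app (A : Y.Modules) :
    (adjExt f x).unit.app A =
      (adjS Y (f x)).unit.app A ≫ (skyS Y (f x)).map
        ((ModuleCat.extendRestrictScalarsAdj.{u, u, u} (f.stalkMap x).hom).unit.app
          ((stalkSh Y (f x)).obj A)) := by
  unfold adjExt
  rw [Adjunction.comp_unit_app]

/-- **Property U**: the germ of `η(a)` corresponds to `1 ⊗ germ a` -/
lemma stalkPullbackIso_gm_unit (A : Y.Modules) (U : Y.Opens) (h : f x ∈ U)
    (a : A.val.obj (op U)) :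
    ((stalkPullbackIso f x).hom.app A).hom
      (gm ((fgtS X).obj ((Scheme.Modules.pullback f).obj A)) x (f ⁻¹ᵁ U) h
        ((ppUnit f A).val.app (op U) a)) =
    (1 : X.presheaf.stalk x) ⊗ₜ[Y.presheaf.stalk (f x), (f.stalkMap x).hom]
      (gm ((fgtS Y).obj A) (f x) U h a) := by
  have key := Adjunction.unit_leftAdjointUniq_hom_app (adjPull f x)
    ((adjExt f x).ofNatIsoRight (pushSkyIso f x).symm) A
  rw [adjPull_unit_app, Adjunction.ofNatIsoRight_unit, NatTrans.comp_app, adjExt_unit_app] at key
  have h2 := congrArg (fun φ => ((φ.val.app (op U)).hom a : SkyT x _ (f ⁻¹ᵁ U)) ⟨h⟩) key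
  exact h2

end Groth.Agent.Lib.Helper5.ProjF
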