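import Mathlib
import Groth.Agent.Lib.Helper5.ProjF.StalkGerm
import Groth.Agent.Lib.Helper5.ProjF.UnitGerm
import Groth.Agent.Lib.Helper5.ProjF.IsoStalk
import Groth.Agent.Lib.Helper5.Stalk.ClPushStalk
import Groth.Agent.Lib.Helper5.StalkTen.BCKFlat
import Groth.Agent.Lib.Helper5.Misc.ClosedPush

/-!
# The projection formula map `f_* M ⊗ A ⟶ f_* (M ⊗ f^* A)` on modules (helper5)
-/
set_option autoImplicit false
set_option linter.unusedSectionVars false
set_option linter.unusedVariables false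
universe u
open CategoryTheory CategoryTheory.Limits MonoidalCategory Opposite TensorProduct TopologicalSpace
  AlgebraicGeometry
open Groth.Agent.Lib.Helper5.Misc.StalkTensor
  Groth.Agent.Lib.Helper5.Sky Groth.Agent.Lib.Helper5.StalkAdj Groth.Agent.Lib.Helper5.StalkTenP
  Groth.Agent.Lib.Helper5.StalkTenS
open Groth.Agent.Helper1 Groth.Agent.Helper1.TmulLib Groth.Agent.Helper1.QcCech
open ChangeOfRings

namespace Groth.Agent.Lib.Helper5.ProjF

variable {X Y : Scheme.{u}} (f : X ⟶ Y)

/-- the projection formula map `f_* M ⊗ A ⟶ f_* (M ⊗ f^* A)` -/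
noncomputable def piMap (M : X.Modules) (A : Y.Modules) :
    (DCoh.tensorBi.obj ((Scheme.Modules.pushforward f).obj M)).obj A ⟶
      (Scheme.Modules.pushforward f).obj
        ((DCoh.tensorBi.obj M).obj ((Scheme.Modules.pullback f).obj A)) :=
  VT.uTens f (𝟙 ((Scheme.Modules.pushforward f).obj M)) (ppUnit f A)

lemma piMap_tm (M : X.Modules) (A : Y.Modules) (U : Y.Opens)
    (m : Γ((Scheme.Modules.pushforward f).obj M, U)) (a : Γ(A, U)) :
    (piMap f M A).app U (tm ((Scheme.Modules.pushforward f).obj M) A U m a) =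
      tm M ((Scheme.Modules.pullback f).obj A) (f ⁻¹ᵁ U) m ((ppUnit f A).app U a) :=
  VT.sec_uTens f (𝟙 ((Scheme.Modules.pushforward f).obj M)) (ppUnit f A) U m a


section Stalk

variable (M : X.Modules) (A : Y.Modules) (x : X)

/-- the ring map `𝒪_{Y,f x} → 𝒪_{X,x}` -/
noncomputable abbrev gx : Y.presheaf.stalk (f x) →+* X.presheaf.stalk x := (f.stalkMap x).hom

/-- `W = M ⊗ f^* A` -/
noncomputable abbrev Wm : X.Modules :=
  (DCoh.tensorBi.obj M).obj ((Scheme.Modules.pullback f).obj A)

/-- the map `(f_* W)_{f x} → M_x ⊗_{𝒪_{Y,f x}} A_{f x}` -/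
noncomputable def lam :
    ↑((stalkSh Y (f x)).obj ((Scheme.Modules.pushforward f).obj (Wm f M A))) →+
      ((ModuleCat.restrictScalars (gx f x)).obj ((stalkSh X x).obj M) ⊗
        (stalkSh Y (f x)).obj A : ModuleCat (Y.presheaf.stalk (f x))) :=
  (Groth.Agent.Lib.Helper5.BCKFlat.projEquiv (gx f x) ((stalkSh X x).obj M)
      ((stalkSh Y (f x)).obj A)).toLinearMap.toAddMonoidHom.comp
    ((((stalkSh X x).obj M) ◁ ((stalkPullbackIso f x).hom.app A)).hom.toAddMonoidHom.comp
      ((stalkTensorIsoS X x M ((Scheme.Modules.pullback f).obj A)).hom.hom.toAddMonoidHom.comp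
        (Groth.Agent.Lib.Helper5.ClPushStalk.cmpAb f (Wm f M A) x).hom))


lemma lam_gm (U : Y.Opens) (h : f x ∈ U)
    (m : Γ((Scheme.Modules.pushforward f).obj M, U)) (a : Γ(A, U)) :
    lam f M A x (gm ((Scheme.Modules.pushforward f).obj (Wm f M A)).val (f x) U h
      (tm M ((Scheme.Modules.pullback f).obj A) (f ⁻¹ᵁ U) m ((ppUnit f A).app U a))) =
    (Groth.Agent.Lib.Helper5.BCKFlat.rp (gx f x) (gm ((fgtS X).obj M) x (f ⁻¹ᵁ U) h m))
      ⊗ₜ[Y.presheaf.stalk (f x)] (gm ((fgtS Y).obj A) (f x) U h a) := by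
  have e4 : Groth.Agent.Lib.Helper5.ClPushStalk.cmpAb f (Wm f M A) x
      (gm ((Scheme.Modules.pushforward f).obj (Wm f M A)).val (f x) U h
        (tm M ((Scheme.Modules.pullback f).obj A) (f ⁻¹ᵁ U) m ((ppUnit f A).app U a))) =
      gm ((fgtS X).obj (Wm f M A)) x (f ⁻¹ᵁ U) h
        (tm M ((Scheme.Modules.pullback f).obj A) (f ⁻¹ᵁ U) m ((ppUnit f A).app U a)) :=
    Groth.Agent.Lib.Helper5.ClPushStalk.cmpAb_germ f (Wm f M A) x U h _
  have e5 := stalkTensorIsoS_gm_tm X x M ((Scheme.Modules.pullback f).obj A) (f ⁻¹ᵁ U) h m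
    ((ppUnit f A).app U a)
  have e7 := stalkPullbackIso_gm_unit f x A U h a
  show Groth.Agent.Lib.Helper5.BCKFlat.projEquiv (gx f x) ((stalkSh X x).obj M)
      ((stalkSh Y (f x)).obj A)
    ((((stalkSh X x).obj M) ◁ ((stalkPullbackIso f x).hom.app A)).hom
      ((stalkTensorIsoS X x M ((Scheme.Modules.pullback f).obj A)).hom.hom
        (Groth.Agent.Lib.Helper5.ClPushStalk.cmpAb f (Wm f M A) x _))) = _
  rw [e4]
  erw [e5]
  erw [ModuleCat.MonoidalCategory.whiskerLeft_apply]
  erw [e7]
  erw [Groth.Agent.Lib.Helper5.BCKFlat.projEquiv_tmul]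
  rw [one_smul]
  rfl


/-- the comparison map `(f_* M)_{f x} → M_x` over `𝒪_{Y, f x}` -/
noncomputable def cmpS :
    (stalkSh Y (f x)).obj ((Scheme.Modules.pushforward f).obj M) ⟶
      (ModuleCat.restrictScalars (gx f x)).obj ((stalkSh X x).obj M) :=
  Groth.Agent.Lib.Helper5.ClPushStalk.cmpL f M x

lemma cmpS_gm (U : Y.Opens) (h : f x ∈ U) (m : Γ((Scheme.Modules.pushforward f).obj M, U)) :
    (cmpS f M x).hom (gm ((Scheme.Modules.pushforward f).obj M).val (f x) U h m) =
      Groth.Agent.Lib.Helper5.BCKFlat.rp (gx f x) (gm ((fgtS X).obj M) x (f ⁻¹ᵁ U) h m) :=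
  Groth.Agent.Lib.Helper5.ClPushStalk.cmpAb_germ f M x U h m

lemma cmpS_bijective [IsClosedImmersion f] : Function.Bijective (cmpS f M x).hom :=
  Groth.Agent.Lib.Helper5.ClPushStalk.cmpL_bijective f M x

/-- the stalk of `piMap` -/
noncomputable abbrev piStalk :
    (stalkSh Y (f x)).obj ((DCoh.tensorBi.obj ((Scheme.Modules.pushforward f).obj M)).obj A) ⟶
      (stalkSh Y (f x)).obj ((Scheme.Modules.pushforward f).obj (Wm f M A)) :=
  (stalkSh Y (f x)).map (piMap f M A)

lemma piStalk_gm_tm (U : Y.Opens) (h : f x ∈ U)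
    (m : Γ((Scheme.Modules.pushforward f).obj M, U)) (a : Γ(A, U)) :
    (piStalk f M A x).hom
      (gm ((fgtS Y).obj ((DCoh.tensorBi.obj ((Scheme.Modules.pushforward f).obj M)).obj A)) (f x) U h
        (tm ((Scheme.Modules.pushforward f).obj M) A U m a)) =
    gm ((Scheme.Modules.pushforward f).obj (Wm f M A)).val (f x) U h
      (tm M ((Scheme.Modules.pullback f).obj A) (f ⁻¹ᵁ U) m ((ppUnit f A).app U a)) := by
  rw [stalkSh_map_apply]
  erw [stalkMap_gm]
  exact congrArg _ (piMap_tm f M A U m a)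


/-- abbreviation: `f_* M` -/
noncomputable abbrev pM : Y.Modules := (Scheme.Modules.pushforward f).obj M

lemma alpha_inv_tmul (U : Y.Opens) (h : f x ∈ U) (m : Γ(pM f M, U)) (a : Γ(A, U)) :
    (stalkTensorIsoS Y (f x) (pM f M) A).inv.hom
      ((gm ((fgtS Y).obj (pM f M)) (f x) U h m) ⊗ₜ[Y.presheaf.stalk (f x)]
        (gm ((fgtS Y).obj A) (f x) U h a)) =
    gm ((fgtS Y).obj ((DCoh.tensorBi.obj (pM f M)).obj A)) (f x) U h (tm (pM f M) A U m a) := by
  have e := stalkTensorIsoS_gm_tm Y (f x) (pM f M) A U h m a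
  have e' := congrArg (fun z => (stalkTensorIsoS Y (f x) (pM f M) A).inv.hom z) e
  refine e'.symm.trans ?_
  exact congrFun (congrArg (fun φ => (φ.hom : _ → _))
    (stalkTensorIsoS Y (f x) (pM f M) A).hom_inv_id) _

theorem lam_piStalk_inv
    (t : ↑((stalkSh Y (f x)).obj (pM f M) ⊗ (stalkSh Y (f x)).obj A :
      ModuleCat (Y.presheaf.stalk (f x)))) :
    lam f M A x ((piStalk f M A x).hom ((stalkTensorIsoS Y (f x) (pM f M) A).inv.hom t)) =
      LinearMap.rTensor ((stalkSh Y (f x)).obj A) (cmpS f M x).hom t := by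
  induction t using TensorProduct.induction_on with
  | zero => simp only [map_zero]
  | tmul a' b' =>
    obtain ⟨W, hW, _, m, a, _, rfl, rfl⟩ := common_rep ((fgtS Y).obj (pM f M)) ((fgtS Y).obj A)
      (f x) (1 : Y.presheaf.stalk (f x)) a' b'
    erw [alpha_inv_tmul f M A x W hW m a]
    erw [piStalk_gm_tm f M A x W hW m a]
    erw [lam_gm f M A x W hW m a]
    rw [LinearMap.rTensor_tmul]
    erw [cmpS_gm f M x W hW m]
    rfl
  | add u v hu hv =>
    rw [map_add, map_add, map_add, map_add, hu, hv]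


lemma bijective_of_isIso_moduleCat {R : Type u} [Ring R] {P Q : ModuleCat.{u} R} (φ : P ⟶ Q)
    [IsIso φ] : Function.Bijective φ.hom :=
  ConcreteCategory.bijective_of_isIso φ

lemma lam_bijective [IsClosedImmersion f] : Function.Bijective (lam f M A x) := by
  have h1 : Function.Bijective
      (Groth.Agent.Lib.Helper5.ClPushStalk.cmpAb f (Wm f M A) x).hom :=
    Groth.Agent.Lib.Helper5.ClPushStalk.cmpL_bijective f (Wm f M A) x
  have h2 : Function.Bijective
      (stalkTensorIsoS X x M ((Scheme.Modules.pullback f).obj A)).hom.hom :=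
    bijective_of_isIso_moduleCat _
  have h3 : Function.Bijective
      (((stalkSh X x).obj M) ◁ ((stalkPullbackIso f x).hom.app A)).hom :=
    bijective_of_isIso_moduleCat _
  have h4 : Function.Bijective (Groth.Agent.Lib.Helper5.BCKFlat.projEquiv (gx f x)
      ((stalkSh X x).obj M) ((stalkSh Y (f x)).obj A)) := LinearEquiv.bijective _
  exact h4.comp (h3.comp (h2.comp h1))

theorem bijective_piStalk [IsClosedImmersion f] :
    Function.Bijective (piStalk f M A x).hom := by
  have hD : Function.Bijective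
      (LinearMap.rTensor ((stalkSh Y (f x)).obj A) (cmpS f M x).hom) := by
    let e := LinearEquiv.ofBijective (cmpS f M x).hom (cmpS_bijective f M x)
    exact (LinearEquiv.rTensor ((stalkSh Y (f x)).obj A) e).bijective
  have hα : Function.Bijective (stalkTensorIsoS Y (f x) (pM f M) A).inv.hom :=
    bijective_of_isIso_moduleCat _
  have hcomp : ((lam f M A x) ∘ (piStalk f M A x).hom) ∘
      (stalkTensorIsoS Y (f x) (pM f M) A).inv.hom =
      LinearMap.rTensor ((stalkSh Y (f x)).obj A) (cmpS f M x).hom :=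
    funext (lam_piStalk_inv f M A x)
  rw [← hcomp] at hD
  have h5 := (Function.Bijective.of_comp_iff _ hα).1 hD
  exact (Function.Bijective.of_comp_iff' (lam_bijective f M A x) _).1 h5

end Stalk


section Outside

variable [IsClosedImmersion f] (M : X.Modules) (A : Y.Modules)

/-- the stalks of `f_* M` vanish outside the image of `f` -/
lemma subsingleton_stalk_push (y : Y) (hy : y ∉ Set.range f) :
    Subsingleton ↑((stalkSh Y y).obj ((Scheme.Modules.pushforward f).obj M)) := by
  have h0 := Groth.Agent.Lib.Helper5.ClosedPush.isZero_stalk_pushforward f.base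
    (f.isClosedEmbedding.isClosed_range) (⟨M.presheaf, M.isSheaf⟩ : TopCat.Sheaf Ab X) y hy
  exact AddCommGrpCat.subsingleton_of_isZero h0

lemma subsingleton_tensor_of_left {R : Type u} [CommRing R] (P Q : ModuleCat.{u} R)
    [Subsingleton P] : Subsingleton ↑(P ⊗ Q : ModuleCat R) := by
  refine ⟨fun a b => ?_⟩
  suffices h : ∀ t : ↑(P ⊗ Q : ModuleCat R), t = 0 by rw [h a, h b]
  intro t
  induction t using TensorProduct.induction_on with
  | zero => rfl
  | tmul p q =>
    have : p = 0 := Subsingleton.elim _ _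
    rw [this]
    exact TensorProduct.zero_tmul _ _
  | add u v hu hv => rw [hu, hv, add_zero]

theorem isIso_piMap : IsIso (piMap f M A) := by
  apply isIso_of_stalks_bijective
  intro y
  by_cases hy : y ∈ Set.range f
  · obtain ⟨x, rfl⟩ := hy
    exact bijective_piStalk f M A x
  · haveI h1 := subsingleton_stalk_push f M y hy
    haveI h2 := subsingleton_stalk_push f (Wm f M A) y hy
    haveI h3 : Subsingleton ↑((stalkSh Y y).obj
        ((DCoh.tensorBi.obj ((Scheme.Modules.pushforward f).obj M)).obj A)) := by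
      haveI := subsingleton_tensor_of_left ((stalkSh Y y).obj ((Scheme.Modules.pushforward f).obj M))
        ((stalkSh Y y).obj A)
      exact (stalkTensorIsoS Y y ((Scheme.Modules.pushforward f).obj M) A).toLinearEquiv.toEquiv.subsingleton
    constructor
    · intro a b _
      exact Subsingleton.elim _ _
    · intro b
      exact ⟨0, Subsingleton.elim _ _⟩

end Outside

end Groth.Agent.Lib.Helper5.ProjF
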