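import Mathlib
import Groth.Agent.Lib.Helper5.ProjF.PiMap

/-!
# Naturality of the projection formula map (helper5)
-/
set_option autoImplicit false
set_option linter.unusedSectionVars false
set_option linter.unusedVariables false
universe u
open CategoryTheory CategoryTheory.Limits MonoidalCategory Opposite TensorProduct TopologicalSpace
  AlgebraicGeometry
open Groth.Agent.Lib.Helper5.StalkAdj
open Groth.Agent.Helper1 Groth.Agent.Helper1.TmulLib Groth.Agent.Helper1.QcCech

namespace Groth.Agent.Lib.Helper5.ProjF

section Ext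

variable {X : Scheme.{u}}

/-- morphisms out of a tensor product are determined by their values on pure tensors -/
theorem tensor_hom_ext {M N K : X.Modules} (φ ψ : (DCoh.tensorBi.obj M).obj N ⟶ K)
    (h : ∀ (U : X.Opens) (m : Γ(M, U)) (n : Γ(N, U)),
      φ.app U (tm M N U m n) = ψ.app U (tm M N U m n)) : φ = ψ := by
  apply ((PresheafOfModules.sheafificationAdjunction (𝟙 X.ringCatSheaf.obj)).homEquiv
    (show X.PresheafOfModules from CohB1.tensorPre M N) K).injective
  apply PresheafOfModules.hom_ext
  intro U
  apply ModuleCat.MonoidalCategory.tensor_ext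
  intro m n
  rw [Adjunction.homEquiv_unit, Adjunction.homEquiv_unit]
  exact h U.unop m n

lemma tensorBi_map_app_tm {M M' : X.Modules} (g : M ⟶ M') (N : X.Modules) (U : X.Opens)
    (m : Γ(M, U)) (n : Γ(N, U)) :
    ((DCoh.tensorBi.map g).app N).app U (tm M N U m n) = tm M' N U (g.app U m) n := by
  have h1 := (PresheafOfModules.sheafificationAdjunction (𝟙 X.ringCatSheaf.obj)).unit.naturality
    (DCoh.toP.map g ▷ DCoh.toP.obj N)
  have h2 := congrArg (fun φ => (φ.app (op U)).hom (m ⊗ₜ n)) h1
  exact h2.symm

lemma tensorBi_obj_map_tm (M : X.Modules) {N N' : X.Modules} (g : N ⟶ N') (U : X.Opens)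
    (m : Γ(M, U)) (n : Γ(N, U)) :
    ((DCoh.tensorBi.obj M).map g).app U (tm M N U m n) = tm M N' U m (g.app U n) := by
  have h1 := (PresheafOfModules.sheafificationAdjunction (𝟙 X.ringCatSheaf.obj)).unit.naturality
    (DCoh.toP.obj M ◁ DCoh.toP.map g)
  have h2 := congrArg (fun φ => (φ.app (op U)).hom (m ⊗ₜ n)) h1
  exact h2.symm

end Ext


section Nat

variable {X Y : Scheme.{u}} (f : X ⟶ Y)

lemma piMap_naturality_left {M M' : X.Modules} (g : M ⟶ M') (A : Y.Modules) :
    (DCoh.tensorBi.map ((Scheme.Modules.pushforward f).map g)).app A ≫ piMap f M' A =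
      piMap f M A ≫ (Scheme.Modules.pushforward f).map
        ((DCoh.tensorBi.map g).app ((Scheme.Modules.pullback f).obj A)) := by
  apply tensor_hom_ext
  intro U m a
  have h1 := tensorBi_map_app_tm ((Scheme.Modules.pushforward f).map g) A U m a
  have h2 := piMap_tm f M' A U (((Scheme.Modules.pushforward f).map g).app U m) a
  have h3 := piMap_tm f M A U m a
  have h4 := tensorBi_map_app_tm g ((Scheme.Modules.pullback f).obj A) (f ⁻¹ᵁ U) m
    ((ppUnit f A).app U a)
  show (piMap f M' A).app U (((DCoh.tensorBi.map ((Scheme.Modules.pushforward f).map g)).app A).app U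
      (tm ((Scheme.Modules.pushforward f).obj M) A U m a)) =
    ((Scheme.Modules.pushforward f).map
      ((DCoh.tensorBi.map g).app ((Scheme.Modules.pullback f).obj A))).app U
      ((piMap f M A).app U (tm ((Scheme.Modules.pushforward f).obj M) A U m a))
  rw [h1, h2, h3]
  exact h4.symm

lemma piMap_naturality_right (M : X.Modules) {A A' : Y.Modules} (h : A ⟶ A') :
    (DCoh.tensorBi.obj ((Scheme.Modules.pushforward f).obj M)).map h ≫ piMap f M A' =
      piMap f M A ≫ (Scheme.Modules.pushforward f).map
        ((DCoh.tensorBi.obj M).map ((Scheme.Modules.pullback f).map h)) := by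
  apply tensor_hom_ext
  intro U m a
  have h1 := tensorBi_obj_map_tm ((Scheme.Modules.pushforward f).obj M) h U m a
  have h2 := piMap_tm f M A' U m (h.app U a)
  have h3 := piMap_tm f M A U m a
  have h4 := tensorBi_obj_map_tm M ((Scheme.Modules.pullback f).map h) (f ⁻¹ᵁ U) m
    ((ppUnit f A).app U a)
  have h5 : (ppUnit f A').app U (h.app U a) =
      ((Scheme.Modules.pullback f).map h).app (f ⁻¹ᵁ U) ((ppUnit f A).app U a) := by
    have := (Scheme.Modules.pullbackPushforwardAdjunction f).unit.naturality h
    exact congrArg (fun φ => (φ.app U).hom a) this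
  show (piMap f M A').app U (((DCoh.tensorBi.obj ((Scheme.Modules.pushforward f).obj M)).map h).app U
      (tm ((Scheme.Modules.pushforward f).obj M) A U m a)) =
    ((Scheme.Modules.pushforward f).map
      ((DCoh.tensorBi.obj M).map ((Scheme.Modules.pullback f).map h))).app U
      ((piMap f M A).app U (tm ((Scheme.Modules.pushforward f).obj M) A U m a))
  rw [h1, h2, h3, h5]
  exact h4.symm

end Nat

end Groth.Agent.Lib.Helper5.ProjF
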