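import Mathlib
import Groth.Agent.Lib.Helper5.ProjF.PiNat
import Groth.Agent.Lib.Helper5.StalkTen.TotFun
import Groth.Agent.Lib.Helper5.Misc.ClosedPushMod

/-!
# The projection formula for a closed immersion, on complexes (helper5)
-/
set_option autoImplicit false
set_option linter.unusedSectionVars false
set_option linter.unusedVariables false
universe u
open CategoryTheory CategoryTheory.Limits MonoidalCategory Opposite TopologicalSpace
  AlgebraicGeometry HomologicalComplex

namespace Groth.Agent.Lib.Helper5.ProjF

variable {X Y : Scheme.{u}} (f : X ⟶ Y)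

/-- the bifunctor `(M, A) ↦ M ⊗ f^* A` -/
noncomputable abbrev TAf : X.Modules ⥤ Y.Modules ⥤ X.Modules :=
  DCoh.tensorBi ⋙ (Functor.whiskeringLeft _ _ _).obj (Scheme.Modules.pullback f)

instance : (TAf f).PreservesZeroMorphisms where
  map_zero M M' := by
    apply NatTrans.ext
    funext A
    show (DCoh.tensorBi.map (0 : M ⟶ M')).app ((Scheme.Modules.pullback f).obj A) = 0
    rw [Functor.map_zero]
    rfl

instance (M : X.Modules) : ((TAf f).obj M).PreservesZeroMorphisms :=
  inferInstanceAs (Scheme.Modules.pullback f ⋙ DCoh.tensorBi.obj M).PreservesZeroMorphisms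

variable [IsClosedImmersion f]

/-- the projection formula isomorphism on modules -/
noncomputable def piIso (M : X.Modules) (A : Y.Modules) :
    (Scheme.Modules.pushforward f).obj (((TAf f).obj M).obj A) ≅
      (DCoh.tensorBi.obj ((Scheme.Modules.pushforward f).obj M)).obj ((𝟭 Y.Modules).obj A) :=
  haveI := isIso_piMap f M A
  (asIso (piMap f M A)).symm


lemma piIso_naturality_left {M M' : X.Modules} (g : M ⟶ M') (A : Y.Modules) :
    (Scheme.Modules.pushforward f).map (((TAf f).map g).app A) ≫ (piIso f M' A).hom =
      (piIso f M A).hom ≫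
        (DCoh.tensorBi.map ((Scheme.Modules.pushforward f).map g)).app ((𝟭 Y.Modules).obj A) := by
  haveI := isIso_piMap f M A
  haveI := isIso_piMap f M' A
  have h := piMap_naturality_left f g A
  show (Scheme.Modules.pushforward f).map
      ((DCoh.tensorBi.map g).app ((Scheme.Modules.pullback f).obj A)) ≫ inv (piMap f M' A) =
    inv (piMap f M A) ≫ (DCoh.tensorBi.map ((Scheme.Modules.pushforward f).map g)).app A
  rw [IsIso.comp_inv_eq, Category.assoc, h, IsIso.inv_hom_id_assoc]

lemma piIso_naturality_right (M : X.Modules) {A A' : Y.Modules} (h : A ⟶ A') :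
    (Scheme.Modules.pushforward f).map (((TAf f).obj M).map h) ≫ (piIso f M A').hom =
      (piIso f M A).hom ≫
        (DCoh.tensorBi.obj ((Scheme.Modules.pushforward f).obj M)).map ((𝟭 Y.Modules).map h) := by
  haveI := isIso_piMap f M A
  haveI := isIso_piMap f M A'
  have h' := piMap_naturality_right f M h
  show (Scheme.Modules.pushforward f).map
      ((DCoh.tensorBi.obj M).map ((Scheme.Modules.pullback f).map h)) ≫ inv (piMap f M A') =
    inv (piMap f M A) ≫ (DCoh.tensorBi.obj ((Scheme.Modules.pushforward f).obj M)).map h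
  rw [IsIso.comp_inv_eq, Category.assoc, h', IsIso.inv_hom_id_assoc]

variable (F : CochainComplex X.Modules ℤ) (P : CochainComplex Y.Modules ℤ)

instance : ∀ n : ℤ, PreservesColimitsOfShape (Discrete ((ComplexShape.π (ComplexShape.up ℤ)
    (ComplexShape.up ℤ) (ComplexShape.up ℤ)) ⁻¹' {n})) (Scheme.Modules.pushforward f) := by
  intro n
  haveI : PreservesColimitsOfSize.{u, u} (Scheme.Modules.pushforward f) :=
    Groth.Agent.Lib.Helper5.ClosedPushMod.preservesColimits_pushforward f
  haveI : PreservesColimitsOfSize.{0, 0} (Scheme.Modules.pushforward f) :=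
    preservesColimitsOfSize_shrink.{0, u, 0, u} _
  infer_instance

/-- the complex-level isomorphism, raw form -/
noncomputable def piCxIso₀ :=
  Groth.Agent.Lib.Helper5.TotFun.totIso (TAf f) DCoh.tensorBi (Scheme.Modules.pushforward f)
    (𝟭 Y.Modules) (Scheme.Modules.pushforward f) (piIso f)
    (fun g A => piIso_naturality_left f g A) (fun M _ _ h => piIso_naturality_right f M h) F P


/-- **the projection formula for a closed immersion, on complexes**:
`f_* (F ⊗ f^* P) ≅ f_* F ⊗ P` -/
noncomputable def piCxIso :
    ((Scheme.Modules.pushforward f).mapHomologicalComplex (ComplexShape.up ℤ)).obj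
      ((DCoh.tensorCx.obj F).obj
        (((Scheme.Modules.pullback f).mapHomologicalComplex (ComplexShape.up ℤ)).obj P)) ≅
    (DCoh.tensorCx.obj
      (((Scheme.Modules.pushforward f).mapHomologicalComplex (ComplexShape.up ℤ)).obj F)).obj P :=
  piCxIso₀ f F P

end Groth.Agent.Lib.Helper5.ProjF
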