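import Mathlib
import Groth.Prelude.Def_DCoh4
import Groth.Agent.Lib.Helper5.ProjF.PiCx
import Groth.Agent.Lib.Helper5.LTen.DerInv
import Groth.Agent.Lib.Helper5.StalkTen.KFlatPull

/-!
# The derived projection formula for a closed immersion and a K-flat complex (helper5)
-/
set_option autoImplicit false
set_option linter.unusedSectionVars false
set_option linter.unusedVariables false
universe u
open CategoryTheory CategoryTheory.Limits Opposite TopologicalSpace AlgebraicGeometry

attribute [local instance] HasDerivedCategory.standard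

namespace Groth.Agent.Lib.Helper5.ProjF

variable {X Y : Scheme.{u}} (f : X ⟶ Y) [IsClosedImmersion f]

instance preservesFiniteColimits_push' :
    PreservesFiniteColimits (Scheme.Modules.pushforward f) := by
  haveI : PreservesColimitsOfSize.{u, u} (Scheme.Modules.pushforward f) :=
    Groth.Agent.Lib.Helper5.ClosedPushMod.preservesColimits_pushforward f
  exact PreservesColimitsOfSize.preservesFiniteColimits _

instance preservesFiniteLimits_push' :
    PreservesFiniteLimits (Scheme.Modules.pushforward f) := by
  haveI : PreservesLimitsOfSize.{u, u} (Scheme.Modules.pushforward f) :=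
    (Scheme.Modules.pullbackPushforwardAdjunction f).rightAdjoint_preservesLimits
  exact PreservesLimitsOfSize.preservesFiniteLimits _

/-- `Rf_*` is the termwise direct image for a closed immersion -/
noncomputable def rpushIsoMapD [DCoh.HasRpush f] :
    DCoh.Rpush f ≅ (Scheme.Modules.pushforward f).mapDerivedCategory := by
  let e : DerivedCategory.Qh ⋙ (Scheme.Modules.pushforward f).mapDerivedCategory ≅ DCoh.pushKh f :=
    Functor.mapDerivedCategoryFactorsh _
  haveI := Functor.isRightDerivedFunctor_of_inverts
    (HomotopyCategory.quasiIso X.Modules (ComplexShape.up ℤ))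
    ((Scheme.Modules.pushforward f).mapDerivedCategory) e
  exact Functor.rightDerivedUnique (DCoh.Rpush f) _
    ((DCoh.pushKh f).totalRightDerivedUnit DerivedCategory.Qh
      (HomotopyCategory.quasiIso X.Modules (ComplexShape.up ℤ))) e.inv
    (HomotopyCategory.quasiIso X.Modules (ComplexShape.up ℤ))

/-- `Rf_* (Q F) ≅ Q (f_* F)` for a closed immersion -/
noncomputable def rpushQIso [DCoh.HasRpush f] (F : CochainComplex X.Modules ℤ) :
    (DCoh.Rpush f).obj (DerivedCategory.Q.obj F) ≅
      DerivedCategory.Q.obj
        (((Scheme.Modules.pushforward f).mapHomologicalComplex (ComplexShape.up ℤ)).obj F) :=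
  (rpushIsoMapD f).app (DerivedCategory.Q.obj F) ≪≫
    ((Scheme.Modules.pushforward f).mapDerivedCategoryFactors).app F

/-- **the projection formula for a closed immersion and a K-flat complex** -/
theorem nonempty_projIso_closed [DCoh.HasRpush f]
    (P : CochainComplex Y.Modules ℤ) (hP : DCoh.IsKFlat P)
    [DCoh.HasLTensorCx P]
    [DCoh.HasLTensorCx (((Scheme.Modules.pullback f).mapHomologicalComplex (ComplexShape.up ℤ)).obj P)]
    (E : DCoh.D X) :
    Nonempty ((DCoh.LTensorCx P).obj ((DCoh.Rpush f).obj E) ≅
      (DCoh.Rpush f).obj ((DCoh.LTensorCx (((Scheme.Modules.pullback f).mapHomologicalComplex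
        (ComplexShape.up ℤ)).obj P)).obj E)) := by
  let F := DerivedCategory.Q.objPreimage E
  let e : DerivedCategory.Q.obj F ≅ E := DerivedCategory.Q.objObjPreimageIso E
  let fP := ((Scheme.Modules.pullback f).mapHomologicalComplex (ComplexShape.up ℤ)).obj P
  have hfP : DCoh.IsKFlat fP := Groth.Agent.Lib.Helper5.KFlatPull.isKFlat_pullback f P hP
  let G := (DCoh.tensorCx.obj F).obj fP
  let a1 : (DCoh.Rpush f).obj E ≅ DerivedCategory.Q.obj
      (((Scheme.Modules.pushforward f).mapHomologicalComplex (ComplexShape.up ℤ)).obj F) :=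
    (DCoh.Rpush f).mapIso e.symm ≪≫ rpushQIso f F
  let l1 := (DCoh.LTensorCx P).mapIso a1 ≪≫
    Groth.Agent.Lib.Helper5.LTenDer.ltensorObjIso P hP _
  let r1 : (DCoh.LTensorCx fP).obj E ≅ DerivedCategory.Q.obj G :=
    (DCoh.LTensorCx fP).mapIso e.symm ≪≫
      Groth.Agent.Lib.Helper5.LTenDer.ltensorObjIso fP hfP F
  let r2 := (DCoh.Rpush f).mapIso r1 ≪≫ rpushQIso f G
  exact ⟨l1 ≪≫ (DerivedCategory.Q.mapIso (piCxIso f F P)).symm ≪≫ r2.symm⟩

end Groth.Agent.Lib.Helper5.ProjF
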