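import Mathlib
import Groth.Agent.Lib.Helper5.KFlat.Symm
import Groth.Agent.Lib.Helper5.StalkTen.KFlatPull
import Groth.Agent.Lib.Helper5.Stalk.Lpull
import Groth.Agent.Lib.Helper5.LTen.AssocD

/-!
# `Lf^*` is computed termwise on K-flat complexes; tensor products of K-flat complexes (helper5)
-/
set_option autoImplicit false
set_option linter.unusedSectionVars false
set_option linter.unusedVariables false
set_option linter.style.haveILetI false
universe u
open CategoryTheory CategoryTheory.Limits MonoidalCategory HomologicalComplex AlgebraicGeometry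
attribute [local instance] HasDerivedCategory.standard

namespace Groth.Agent.Lib.Helper5.ProjF

section Ring

open Groth.Agent.Lib.Helper5.KFlat Groth.Agent.Lib.Helper5.Misc.KFlatGen
  Groth.Agent.Lib.Helper5.KProj Groth.Agent.Lib.Helper5.BCKFlat

variable {R S : Type u} [CommRing R] [CommRing S] (g : R →+* S)

/-- tensoring an acyclic K-flat complex with any complex gives an acyclic complex -/
theorem acyclic_tensor_of_isKFlat_acyclic (C : DRing.Cx R) (hC : DRing.IsKFlat R C)
    (hac : ∀ i : ℤ, IsZero (C.homology i)) (L : DRing.Cx R) (i : ℤ) :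
    IsZero ((L ⊗ C).homology i) := by
  haveI h1 : QuasiIso (resMap L ▷ C) := quasiIso_whiskerRight hC _ inferInstance
  have h2 : IsZero ((res L ⊗ C).homology i) := acyc_tensor_left (isKFlat_res L) C hac i
  exact h2.of_iso (asIso (HomologicalComplex.homologyMap (resMap L ▷ C) i)).symm

/-- the base change of an acyclic K-flat complex is acyclic -/
theorem acyclic_extendScalars (C : DRing.Cx R) (hC : DRing.IsKFlat R C)
    (hac : ∀ i : ℤ, IsZero (C.homology i)) (i : ℤ) :
    IsZero ((((ModuleCat.extendScalars.{u, u, u} g).mapHomologicalComplex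
      (ComplexShape.up ℤ)).obj C).homology i) := by
  let M : DRing.Cx S := 𝟙_ (DRing.Cx S)
  have h1 := acyclic_tensor_of_isKFlat_acyclic C hC hac
    (((ModuleCat.restrictScalars.{u} g).mapHomologicalComplex (ComplexShape.up ℤ)).obj M) i
  have e := Groth.Agent.Lib.Helper5.Misc.ProjTot.totIso (curriedTensor (ModuleCat.{u} S))
    (curriedTensor (ModuleCat.{u} R)) (ModuleCat.restrictScalars.{u} g)
    (ModuleCat.extendScalars.{u, u, u} g)
    (fun P N => projIso g P N) (fun f N => projIso_naturality_left g f N)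
    (fun P _ _ h => projIso_naturality_right g P h) M C
  have h2 : IsZero ((((ModuleCat.restrictScalars.{u} g).mapHomologicalComplex
      (ComplexShape.up ℤ)).obj (M ⊗ ((ModuleCat.extendScalars.{u, u, u} g).mapHomologicalComplex
        (ComplexShape.up ℤ)).obj C)).homology i) :=
    h1.of_iso ((HomologicalComplex.homologyFunctor _ _ i).mapIso e)
  have h3 : IsZero ((M ⊗ ((ModuleCat.extendScalars.{u, u, u} g).mapHomologicalComplex
        (ComplexShape.up ℤ)).obj C).homology i) := by
    rw [← exactAt_iff_isZero_homology] at h2 ⊢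
    rw [exactAt_iff' _ (i - 1) i (i + 1) (by simp) (by simp)] at h2 ⊢
    exact (ShortComplex.exact_map_iff_of_faithful _ (ModuleCat.restrictScalars.{u} g)).1 h2
  exact h3.of_iso ((HomologicalComplex.homologyFunctor _ _ i).mapIso
    (λ_ (((ModuleCat.extendScalars.{u, u, u} g).mapHomologicalComplex
        (ComplexShape.up ℤ)).obj C)).symm)

end Ring


section Sheaf

open Groth.Agent.Lib.Helper5.StalkAdj Groth.Agent.Lib.Helper5.StalkTot
  Groth.Agent.Lib.Helper5.KFlatStalk Groth.Agent.Lib.Helper5.KFlatPull
  Groth.Agent.Lib.Helper5.KFlatSiteQ Groth.Agent.Lib.Helper5.KProj.DerHo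
  Groth.Agent.Lib.Helper5.Misc.KFlatSite Groth.Agent.Lib.Helper5.LpullLib

variable {X Y : Scheme.{u}} (f : X ⟶ Y)

/-- **pullback preserves acyclicity of K-flat complexes** -/
theorem exactAt_pullback_of_isKFlat (K : CochainComplex Y.Modules ℤ) (hK : DCoh.IsKFlat K)
    (hac : ∀ i, K.ExactAt i) (n : ℤ) :
    (((Scheme.Modules.pullback f).mapHomologicalComplex (ComplexShape.up ℤ)).obj K).ExactAt n := by
  apply exactAt_of_stalks
  intro x
  have hac' : ∀ i : ℤ, IsZero (K.homology i) := fun i =>
    (HomologicalComplex.exactAt_iff_isZero_homology _ _).1 (hac i)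
  have h1 := acyclic_extendScalars (f.stalkMap x).hom (stalkCx Y (f x) K)
    (isKFlat_stalkCx K hK (f x)) (acyclic_stalkCx K hac' (f x)) n
  rw [HomologicalComplex.exactAt_iff_isZero_homology]
  exact h1.of_iso ((HomologicalComplex.homologyFunctor _ _ n).mapIso (stalkCxPullbackIso f K x))

/-- termwise pullback preserves quasi-isomorphisms between K-flat complexes -/
theorem quasiIso_pullback_map_of_isKFlat {K K' : CochainComplex Y.Modules ℤ} (φ : K ⟶ K')
    (hK : DCoh.IsKFlat K) (hK' : DCoh.IsKFlat K') (hφ : QuasiIso φ) :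
    QuasiIso (((Scheme.Modules.pullback f).mapHomologicalComplex (ComplexShape.up ℤ)).map φ) := by
  rw [Groth.Agent.Helper5.FlatAcyc.quasiIso_iff_acyclic_cone]
  have hc : DCoh.IsKFlat (CochainComplex.mappingCone φ) :=
    (isKFlat_cone_two_of_three (O := Y.sheaf) φ).1 hK hK'
  have hac : (CochainComplex.mappingCone φ).Acyclic :=
    (Groth.Agent.Helper5.FlatAcyc.quasiIso_iff_acyclic_cone φ).1 hφ
  intro i
  exact (exactAt_pullback_of_isKFlat f _ hc hac i).of_iso
    (CochainComplex.mappingCone.mapHomologicalComplexIso φ (Scheme.Modules.pullback f))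

/-- K-flat complexes are adapted to `f^*` -/
theorem adaptedKF : AdaptedCx (Scheme.Modules.pullback f) (DCoh.IsKFlat (X := Y)) where
  res K := by
    obtain ⟨P, p, h1, h2, h3, _⟩ := exists_isKFlat_resolution (O := Y.sheaf) K
    exact ⟨P, p, h1, h3⟩
  inv {K K'} φ hK hK' hφ := quasiIso_pullback_map_of_isKFlat f φ hK hK' hφ

/-- **`Lf^*` is computed termwise on K-flat complexes** -/
noncomputable def lpullObjIsoKF [DCoh.HasLpull f] (E : CochainComplex Y.Modules ℤ)
    (hE : DCoh.IsKFlat E) :
    (DCoh.Lpull f).obj (DerivedCategory.Q.obj E) ≅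
      DerivedCategory.Q.obj
        (((Scheme.Modules.pullback f).mapHomologicalComplex (ComplexShape.up ℤ)).obj E) :=
  totalObjIso (adaptedKF f) E hE

/-- the tensor product of two K-flat complexes is K-flat -/
theorem isKFlat_tensor (K L : CochainComplex Y.Modules ℤ) (hK : DCoh.IsKFlat K)
    (hL : DCoh.IsKFlat L) : DCoh.IsKFlat ((DCoh.tensorCx.obj K).obj L) := by
  intro N hN i
  have h1 : ∀ j : ℤ, IsZero (((DCoh.tensorCx.obj N).obj K).homology j) := hK N hN
  have h2 := hL _ h1 i
  exact h2.of_iso ((HomologicalComplex.homologyFunctor _ _ i).mapIso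
    ((Groth.Agent.Lib.Helper5.AssocD.assocNat K L).app N).symm)

end Sheaf

end Groth.Agent.Lib.Helper5.ProjF
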