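import Mathlib
import Groth.Agent.Lib.Helper5.ProjF.PiNat

/-!
# The comparison `f^* (A ⊗ B) ⟶ f^* A ⊗ f^* B` is an isomorphism (helper5)
-/
set_option autoImplicit false
set_option linter.unusedSectionVars false
set_option linter.unusedVariables false
universe u
open CategoryTheory CategoryTheory.Limits MonoidalCategory Opposite TensorProduct TopologicalSpace
  AlgebraicGeometry
open Groth.Agent.Lib.Helper5.Misc.StalkTensor
  Groth.Agent.Lib.Helper5.Sky Groth.Agent.Lib.Helper5.StalkAdj Groth.Agent.Lib.Helper5.StalkTenP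
  Groth.Agent.Lib.Helper5.StalkTenS
open Groth.Agent.Helper1 Groth.Agent.Helper1.TmulLib Groth.Agent.Helper1.QcCech
open ChangeOfRings

namespace Groth.Agent.Lib.Helper5.ProjF

variable {X Y : Scheme.{u}} (f : X ⟶ Y)

/-- abbreviation: `f^* A` -/
noncomputable abbrev pb (A : Y.Modules) : X.Modules := (Scheme.Modules.pullback f).obj A

/-- `A ⊗ B ⟶ f_* (f^* A ⊗ f^* B)` -/
noncomputable def nuMap (A B : Y.Modules) :
    (DCoh.tensorBi.obj A).obj B ⟶
      (Scheme.Modules.pushforward f).obj ((DCoh.tensorBi.obj (pb f A)).obj (pb f B)) :=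
  VT.uTens f (ppUnit f A) (ppUnit f B)

lemma nuMap_tm (A B : Y.Modules) (U : Y.Opens) (a : Γ(A, U)) (b : Γ(B, U)) :
    (nuMap f A B).app U (tm A B U a b) =
      tm (pb f A) (pb f B) (f ⁻¹ᵁ U) ((ppUnit f A).app U a) ((ppUnit f B).app U b) :=
  VT.sec_uTens f (ppUnit f A) (ppUnit f B) U a b

/-- the comparison `f^* (A ⊗ B) ⟶ f^* A ⊗ f^* B` -/
noncomputable def deltaMap (A B : Y.Modules) :
    pb f ((DCoh.tensorBi.obj A).obj B) ⟶ (DCoh.tensorBi.obj (pb f A)).obj (pb f B) :=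
  ((Scheme.Modules.pullbackPushforwardAdjunction f).homEquiv _ _).symm (nuMap f A B)

lemma unit_deltaMap (A B : Y.Modules) :
    ppUnit f ((DCoh.tensorBi.obj A).obj B) ≫
      (Scheme.Modules.pushforward f).map (deltaMap f A B) = nuMap f A B := by
  rw [← Adjunction.homEquiv_unit]
  exact Equiv.apply_symm_apply _ _

lemma deltaMap_unit_tm (A B : Y.Modules) (U : Y.Opens) (a : Γ(A, U)) (b : Γ(B, U)) :
    (deltaMap f A B).app (f ⁻¹ᵁ U)
      ((ppUnit f ((DCoh.tensorBi.obj A).obj B)).app U (tm A B U a b)) =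
      tm (pb f A) (pb f B) (f ⁻¹ᵁ U) ((ppUnit f A).app U a) ((ppUnit f B).app U b) := by
  have h := congrArg (fun φ => (φ.app U).hom (tm A B U a b)) (unit_deltaMap f A B)
  exact h.trans (nuMap_tm f A B U a b)


section Stalk

variable (A B : Y.Modules) (x : X)

/-- `A ⊗ B` -/
noncomputable abbrev tAB : Y.Modules := (DCoh.tensorBi.obj A).obj B

/-- the isomorphism `(f^* M)_x ≅ 𝒪_{X,x} ⊗ M_{f x}` -/
noncomputable abbrev sig (M : Y.Modules) :
    (stalkSh X x).obj (pb f M) ≅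
      (ModuleCat.extendScalars.{u, u, u} (gx f x)).obj ((stalkSh Y (f x)).obj M) :=
  (stalkPullbackIso f x).app M

/-- the stalk of `deltaMap` -/
noncomputable abbrev deltaStalk :
    (stalkSh X x).obj (pb f (tAB A B)) ⟶
      (stalkSh X x).obj ((DCoh.tensorBi.obj (pb f A)).obj (pb f B)) :=
  (stalkSh X x).map (deltaMap f A B)

lemma deltaStalk_gm (U : Y.Opens) (h : f x ∈ U) (a : Γ(A, U)) (b : Γ(B, U)) :
    (deltaStalk f A B x).hom
      (gm ((fgtS X).obj (pb f (tAB A B))) x (f ⁻¹ᵁ U) h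
        ((ppUnit f (tAB A B)).app U (tm A B U a b))) =
    gm ((fgtS X).obj ((DCoh.tensorBi.obj (pb f A)).obj (pb f B))) x (f ⁻¹ᵁ U) h
      (tm (pb f A) (pb f B) (f ⁻¹ᵁ U) ((ppUnit f A).app U a) ((ppUnit f B).app U b)) := by
  rw [stalkSh_map_apply]
  erw [stalkMap_gm]
  exact congrArg _ (deltaMap_unit_tm f A B U a b)

lemma sig_inv_one_tmul (M : Y.Modules) (U : Y.Opens) (h : f x ∈ U) (m : Γ(M, U)) :
    (sig f x M).inv.hom ((1 : X.presheaf.stalk x) ⊗ₜ[Y.presheaf.stalk (f x), gx f x]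
      (gm ((fgtS Y).obj M) (f x) U h m)) =
    gm ((fgtS X).obj (pb f M)) x (f ⁻¹ᵁ U) h ((ppUnit f M).app U m) := by
  have e := stalkPullbackIso_gm_unit f x M U h m
  have e' := congrArg (fun z => (sig f x M).inv.hom z) e
  refine e'.symm.trans ?_
  exact congrFun (congrArg (fun φ => (φ.hom : _ → _)) (sig f x M).hom_inv_id) _

/-- the composite to be compared with the oplax structure of `extendScalars` -/
noncomputable def psiMap :
    (ModuleCat.extendScalars.{u, u, u} (gx f x)).obj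
        ((stalkSh Y (f x)).obj A ⊗ (stalkSh Y (f x)).obj B) ⟶
      (ModuleCat.extendScalars.{u, u, u} (gx f x)).obj ((stalkSh Y (f x)).obj A) ⊗
        (ModuleCat.extendScalars.{u, u, u} (gx f x)).obj ((stalkSh Y (f x)).obj B) :=
  (ModuleCat.extendScalars.{u, u, u} (gx f x)).map (stalkTensorIsoS Y (f x) A B).inv ≫
    (sig f x (tAB A B)).inv ≫ deltaStalk f A B x ≫
      (stalkTensorIsoS X x (pb f A) (pb f B)).hom ≫ ((sig f x A).hom ⊗ₘ (sig f x B).hom)


lemma alphaY_inv_tmul (U : Y.Opens) (h : f x ∈ U) (a : Γ(A, U)) (b : Γ(B, U)) :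
    (stalkTensorIsoS Y (f x) A B).inv.hom
      ((gm ((fgtS Y).obj A) (f x) U h a) ⊗ₜ[Y.presheaf.stalk (f x)]
        (gm ((fgtS Y).obj B) (f x) U h b)) =
    gm ((fgtS Y).obj (tAB A B)) (f x) U h (tm A B U a b) := by
  have e := stalkTensorIsoS_gm_tm Y (f x) A B U h a b
  have e' := congrArg (fun z => (stalkTensorIsoS Y (f x) A B).inv.hom z) e
  refine e'.symm.trans ?_
  exact congrFun (congrArg (fun φ => (φ.hom : _ → _))
    (stalkTensorIsoS Y (f x) A B).hom_inv_id) _

theorem psiMap_eq :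
    psiMap f A B x = Functor.OplaxMonoidal.δ (ModuleCat.extendScalars.{u, u, u} (gx f x))
      ((stalkSh Y (f x)).obj A) ((stalkSh Y (f x)).obj B) := by
  apply ((ModuleCat.extendRestrictScalarsAdj.{u, u, u} (gx f x)).homEquiv _ _).injective
  apply ModuleCat.MonoidalCategory.tensor_ext
  intro a' b'
  obtain ⟨W, hW, _, a, b, _, rfl, rfl⟩ := common_rep ((fgtS Y).obj A) ((fgtS Y).obj B)
    (f x) (1 : Y.presheaf.stalk (f x)) a' b'
  rw [ModuleCat.extendRestrictScalarsAdj_homEquiv_apply,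
    ModuleCat.extendRestrictScalarsAdj_homEquiv_apply]
  erw [ModuleCat.extendScalars_δ_tmul]
  show ((sig f x A).hom ⊗ₘ (sig f x B).hom).hom
    ((stalkTensorIsoS X x (pb f A) (pb f B)).hom.hom
      ((deltaStalk f A B x).hom
        ((sig f x (tAB A B)).inv.hom
          (((ModuleCat.extendScalars.{u, u, u} (gx f x)).map
            (stalkTensorIsoS Y (f x) A B).inv).hom _)))) = _
  erw [ModuleCat.ExtendScalars.map_tmul]
  erw [alphaY_inv_tmul f A B x W hW a b]
  erw [sig_inv_one_tmul f x (tAB A B) W hW (tm A B W a b)]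
  erw [deltaStalk_gm f A B x W hW a b]
  erw [stalkTensorIsoS_gm_tm X x (pb f A) (pb f B) (f ⁻¹ᵁ W) hW]
  erw [ModuleCat.MonoidalCategory.tensorHom_tmul]
  erw [stalkPullbackIso_gm_unit f x A W hW a, stalkPullbackIso_gm_unit f x B W hW b]
  rfl


theorem isIso_deltaStalk : IsIso (deltaStalk f A B x) := by
  have h0 : IsIso (psiMap f A B x) := by
    rw [psiMap_eq]
    infer_instance
  unfold psiMap at h0
  haveI := h0
  haveI h1 : IsIso ((sig f x (tAB A B)).inv ≫ deltaStalk f A B x ≫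
      (stalkTensorIsoS X x (pb f A) (pb f B)).hom ≫ ((sig f x A).hom ⊗ₘ (sig f x B).hom)) :=
    IsIso.of_isIso_comp_left
      ((ModuleCat.extendScalars.{u, u, u} (gx f x)).map (stalkTensorIsoS Y (f x) A B).inv) _
  haveI h2 : IsIso (deltaStalk f A B x ≫
      (stalkTensorIsoS X x (pb f A) (pb f B)).hom ≫ ((sig f x A).hom ⊗ₘ (sig f x B).hom)) :=
    IsIso.of_isIso_comp_left (sig f x (tAB A B)).inv _
  exact IsIso.of_isIso_comp_right (deltaStalk f A B x)
    ((stalkTensorIsoS X x (pb f A) (pb f B)).hom ≫ ((sig f x A).hom ⊗ₘ (sig f x B).hom))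

end Stalk

/-- **`f^*` is monoidal**: `f^* (A ⊗ B) ⟶ f^* A ⊗ f^* B` is an isomorphism -/
theorem isIso_deltaMap (A B : Y.Modules) : IsIso (deltaMap f A B) := by
  apply isIso_of_stalks_bijective
  intro x
  haveI := isIso_deltaStalk f A B x
  exact ConcreteCategory.bijective_of_isIso (deltaStalk f A B x)

end Groth.Agent.Lib.Helper5.ProjF
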