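import Mathlib
import Groth.Agent.Lib.Helper5.ProjF.DeltaMap
import Groth.Agent.Lib.Helper5.StalkTen.TotFun

/-!
# Naturality of `f^* (A ⊗ B) ≅ f^* A ⊗ f^* B` and the case of complexes (helper5)
-/
set_option autoImplicit false
set_option linter.unusedSectionVars false
set_option linter.unusedVariables false
universe u
open CategoryTheory CategoryTheory.Limits MonoidalCategory Opposite TopologicalSpace
  AlgebraicGeometry
open Groth.Agent.Helper1 Groth.Agent.Helper1.TmulLib Groth.Agent.Helper1.QcCech

namespace Groth.Agent.Lib.Helper5.ProjF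

variable {X Y : Scheme.{u}} (f : X ⟶ Y)

lemma ppUnit_naturality_app {A A' : Y.Modules} (g : A ⟶ A') (U : Y.Opens) (a : Γ(A, U)) :
    (ppUnit f A').app U (g.app U a) =
      ((Scheme.Modules.pullback f).map g).app (f ⁻¹ᵁ U) ((ppUnit f A).app U a) := by
  have := (Scheme.Modules.pullbackPushforwardAdjunction f).unit.naturality g
  exact congrArg (fun φ => (φ.app U).hom a) this

lemma nuMap_naturality_left {A A' : Y.Modules} (g : A ⟶ A') (B : Y.Modules) :
    (DCoh.tensorBi.map g).app B ≫ nuMap f A' B =
      nuMap f A B ≫ (Scheme.Modules.pushforward f).map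
        ((DCoh.tensorBi.map ((Scheme.Modules.pullback f).map g)).app (pb f B)) := by
  apply tensor_hom_ext
  intro U a b
  have h1 := tensorBi_map_app_tm g B U a b
  have h2 := nuMap_tm f A' B U (g.app U a) b
  have h3 := nuMap_tm f A B U a b
  have h4 := tensorBi_map_app_tm ((Scheme.Modules.pullback f).map g) (pb f B) (f ⁻¹ᵁ U)
    ((ppUnit f A).app U a) ((ppUnit f B).app U b)
  have h5 := ppUnit_naturality_app f g U a
  show (nuMap f A' B).app U (((DCoh.tensorBi.map g).app B).app U (tm A B U a b)) =
    ((Scheme.Modules.pushforward f).map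
      ((DCoh.tensorBi.map ((Scheme.Modules.pullback f).map g)).app (pb f B))).app U
      ((nuMap f A B).app U (tm A B U a b))
  rw [h1, h2, h3, h5]
  exact h4.symm

lemma nuMap_naturality_right (A : Y.Modules) {B B' : Y.Modules} (h : B ⟶ B') :
    (DCoh.tensorBi.obj A).map h ≫ nuMap f A B' =
      nuMap f A B ≫ (Scheme.Modules.pushforward f).map
        ((DCoh.tensorBi.obj (pb f A)).map ((Scheme.Modules.pullback f).map h)) := by
  apply tensor_hom_ext
  intro U a b
  have h1 := tensorBi_obj_map_tm A h U a b
  have h2 := nuMap_tm f A B' U a (h.app U b)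
  have h3 := nuMap_tm f A B U a b
  have h4 := tensorBi_obj_map_tm (pb f A) ((Scheme.Modules.pullback f).map h) (f ⁻¹ᵁ U)
    ((ppUnit f A).app U a) ((ppUnit f B).app U b)
  have h5 := ppUnit_naturality_app f h U b
  show (nuMap f A B').app U (((DCoh.tensorBi.obj A).map h).app U (tm A B U a b)) =
    ((Scheme.Modules.pushforward f).map
      ((DCoh.tensorBi.obj (pb f A)).map ((Scheme.Modules.pullback f).map h))).app U
      ((nuMap f A B).app U (tm A B U a b))
  rw [h1, h2, h3, h5]
  exact h4.symm

lemma deltaMap_naturality_left {A A' : Y.Modules} (g : A ⟶ A') (B : Y.Modules) :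
    (Scheme.Modules.pullback f).map ((DCoh.tensorBi.map g).app B) ≫ deltaMap f A' B =
      deltaMap f A B ≫ (DCoh.tensorBi.map ((Scheme.Modules.pullback f).map g)).app (pb f B) := by
  apply ((Scheme.Modules.pullbackPushforwardAdjunction f).homEquiv _ _).injective
  rw [Adjunction.homEquiv_naturality_left, Adjunction.homEquiv_naturality_right]
  unfold deltaMap
  rw [Equiv.apply_symm_apply, Equiv.apply_symm_apply]
  exact nuMap_naturality_left f g B

lemma deltaMap_naturality_right (A : Y.Modules) {B B' : Y.Modules} (h : B ⟶ B') :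
    (Scheme.Modules.pullback f).map ((DCoh.tensorBi.obj A).map h) ≫ deltaMap f A B' =
      deltaMap f A B ≫ (DCoh.tensorBi.obj (pb f A)).map ((Scheme.Modules.pullback f).map h) := by
  apply ((Scheme.Modules.pullbackPushforwardAdjunction f).homEquiv _ _).injective
  rw [Adjunction.homEquiv_naturality_left, Adjunction.homEquiv_naturality_right]
  unfold deltaMap
  rw [Equiv.apply_symm_apply, Equiv.apply_symm_apply]
  exact nuMap_naturality_right f A h

/-- the isomorphism `f^* (A ⊗ B) ≅ f^* A ⊗ f^* B` -/
noncomputable def deltaIso (A B : Y.Modules) :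
    (Scheme.Modules.pullback f).obj ((DCoh.tensorBi.obj A).obj B) ≅
      (DCoh.tensorBi.obj ((Scheme.Modules.pullback f).obj A)).obj
        ((Scheme.Modules.pullback f).obj B) :=
  haveI := isIso_deltaMap f A B
  asIso (deltaMap f A B)

/-- **`f^*` commutes with the tensor product of complexes** -/
noncomputable def deltaCxIso (K L : CochainComplex Y.Modules ℤ) :
    ((Scheme.Modules.pullback f).mapHomologicalComplex (ComplexShape.up ℤ)).obj
      ((DCoh.tensorCx.obj K).obj L) ≅
    (DCoh.tensorCx.obj
      (((Scheme.Modules.pullback f).mapHomologicalComplex (ComplexShape.up ℤ)).obj K)).obj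
      (((Scheme.Modules.pullback f).mapHomologicalComplex (ComplexShape.up ℤ)).obj L) :=
  Groth.Agent.Lib.Helper5.TotFun.totIso DCoh.tensorBi DCoh.tensorBi (Scheme.Modules.pullback f)
    (Scheme.Modules.pullback f) (Scheme.Modules.pullback f) (deltaIso f)
    (fun g B => deltaMap_naturality_left f g B) (fun A _ _ h => deltaMap_naturality_right f A h) K L

end Groth.Agent.Lib.Helper5.ProjF
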