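import Mathlib
import Groth.Agent.Lib.Helper5.ProjF.LpullKF
import Groth.Agent.Lib.Helper5.ProjF.DeltaNat
import Groth.Agent.Lib.Helper5.LTen.DerInv

/-!
# `Lf^* (K ⊗^L L) ≅ Lf^* K ⊗^L f^* L` for a K-flat complex `L` (helper5)
-/
set_option autoImplicit false
set_option linter.unusedSectionVars false
set_option linter.unusedVariables false
set_option linter.style.haveILetI false
universe u
open CategoryTheory CategoryTheory.Limits AlgebraicGeometry
attribute [local instance] HasDerivedCategory.standard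

namespace Groth.Agent.Lib.Helper5.ProjF

open Groth.Agent.Lib.Helper5.KFlatSiteQ Groth.Agent.Lib.Helper5.Misc.KFlatSite

variable {X Y : Scheme.{u}} (f : X ⟶ Y)

/-- every object of `D(O_Y)` is represented by a K-flat complex -/
theorem exists_isKFlat_repr (K : DCoh.D Y) :
    ∃ (G : CochainComplex Y.Modules ℤ), DCoh.IsKFlat G ∧ Nonempty (DerivedCategory.Q.obj G ≅ K) := by
  obtain ⟨K₀, ⟨e⟩⟩ : ∃ K₀ : CochainComplex Y.Modules ℤ, Nonempty (DerivedCategory.Q.obj K₀ ≅ K) :=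
    ⟨_, ⟨DerivedCategory.Q.objObjPreimageIso K⟩⟩
  obtain ⟨P, p, h1, h2, h3, _⟩ := exists_isKFlat_resolution (O := Y.sheaf) K₀
  have : QuasiIso p := h3
  let e' : DerivedCategory.Q.obj P ≅ K := asIso (DerivedCategory.Q.map p) ≪≫ e
  exact ⟨P, h1, ⟨e'⟩⟩

/-- **`Lf^*` commutes with the derived tensor product with a K-flat complex** -/
theorem nonempty_lpull_ltensor [DCoh.HasLpull f] (L : CochainComplex Y.Modules ℤ)
    (hL : DCoh.IsKFlat L) [DCoh.HasLTensorCx L]
    [DCoh.HasLTensorCx (((Scheme.Modules.pullback f).mapHomologicalComplex (ComplexShape.up ℤ)).obj L)]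
    (K : DCoh.D Y) :
    Nonempty ((DCoh.Lpull f).obj ((DCoh.LTensorCx L).obj K) ≅
      (DCoh.LTensorCx (((Scheme.Modules.pullback f).mapHomologicalComplex
        (ComplexShape.up ℤ)).obj L)).obj ((DCoh.Lpull f).obj K)) := by
  obtain ⟨G, hG, ⟨e⟩⟩ := exists_isKFlat_repr K
  let fL := ((Scheme.Modules.pullback f).mapHomologicalComplex (ComplexShape.up ℤ)).obj L
  let fG := ((Scheme.Modules.pullback f).mapHomologicalComplex (ComplexShape.up ℤ)).obj G
  have hfL : DCoh.IsKFlat fL := Groth.Agent.Lib.Helper5.KFlatPull.isKFlat_pullback f L hL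
  let l1 : (DCoh.LTensorCx L).obj K ≅ DerivedCategory.Q.obj ((DCoh.tensorCx.obj G).obj L) :=
    (DCoh.LTensorCx L).mapIso e.symm ≪≫ Groth.Agent.Lib.Helper5.LTenDer.ltensorObjIso L hL G
  let l2 := (DCoh.Lpull f).mapIso l1 ≪≫
    lpullObjIsoKF f ((DCoh.tensorCx.obj G).obj L) (isKFlat_tensor G L hG hL)
  let r1 : (DCoh.Lpull f).obj K ≅ DerivedCategory.Q.obj fG :=
    (DCoh.Lpull f).mapIso e.symm ≪≫ lpullObjIsoKF f G hG
  let r2 := (DCoh.LTensorCx fL).mapIso r1 ≪≫
    Groth.Agent.Lib.Helper5.LTenDer.ltensorObjIso fL hfL fG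
  exact ⟨l2 ≪≫ DerivedCategory.Q.mapIso (deltaCxIso f G L) ≪≫ r2.symm⟩

end Groth.Agent.Lib.Helper5.ProjF
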